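import Cfsg.Agent.H469.PiBS.Def
import Cfsg.Agent.Involutions.BaerSuzuki

/-!
# The end of the rows of S3876: `π` meets `π(S)` in at most one prime (PIBS)
-/

set_option autoImplicit false
set_option linter.unusedSectionVars false

namespace Cfsg.Agent.H469.PiBS

open Cfsg Subgroup

universe u

variable {π : Set ℕ} {S : Type u} [Group S] [Finite S] {A : Subgroup (MulAut S)} {x : MulAut S} {l : ℕ}

theorem center_eq_bot [IsSimpleGroup S] (hna : ¬ IsMulCommutative S) : center S = ⊥ := by
  rcases (IsSimpleGroup.eq_bot_or_eq_top_of_normal (center S) inferInstance) with h1 | h1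
  · exact h1
  · exfalso
    refine hna ⟨⟨fun a b => ?_⟩⟩
    have : b ∈ center S := by rw [h1]; trivial
    exact (mem_center_iff.1 this) a

theorem exists_mul_of_coprime_index' {G : Type*} [Group G] [Finite G] {H K : Subgroup G}
    (h : Nat.Coprime H.index K.index) (g : G) : ∃ x ∈ H, ∃ y ∈ K, g = x * y := by
  classical
  have h1 : (H ⊓ K).relIndex K * K.index = (H ⊓ K).index := relIndex_mul_index inf_le_right
  have h2 : (H ⊓ K).relIndex H * H.index = (H ⊓ K).index := relIndex_mul_index inf_le_left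
  rw [inf_relIndex_right] at h1
  have h3 : H.index ∣ H.relIndex K := by
    apply h.dvd_of_dvd_mul_right
    rw [h1, ← h2]
    exact dvd_mul_left _ _
  have hst : MulAction.stabilizer K (QuotientGroup.mk 1 : G ⧸ H) = H.subgroupOf K := by
    ext y
    rw [MulAction.mem_stabilizer_iff, mem_subgroupOf]
    have : y • (QuotientGroup.mk 1 : G ⧸ H) = QuotientGroup.mk ((y : G) * 1) := rfl
    rw [this, mul_one, QuotientGroup.eq, mul_one, inv_mem_iff]
  have h4 := MulAction.index_stabilizer K (QuotientGroup.mk 1 : G ⧸ H)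
  rw [hst] at h4
  have h5 : (MulAction.orbit K (QuotientGroup.mk 1 : G ⧸ H)) = Set.univ := by
    apply Set.eq_of_subset_of_ncard_le (Set.subset_univ _)
    rw [Set.ncard_univ, ← h4]
    have h6 : H.relIndex K ≠ 0 := by
      rw [relIndex]; exact index_ne_zero_of_finite
    exact Nat.le_of_dvd (Nat.pos_of_ne_zero h6) h3
  have h6 : (QuotientGroup.mk g⁻¹ : G ⧸ H) ∈ MulAction.orbit K (QuotientGroup.mk 1 : G ⧸ H) := by
    rw [h5]; exact Set.mem_univ _
  obtain ⟨y, hy⟩ := h6
  have h7 : (QuotientGroup.mk ((y : G) * 1) : G ⧸ H) = QuotientGroup.mk g⁻¹ := hy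
  rw [QuotientGroup.eq, mul_one] at h7
  refine ⟨((y : G)⁻¹ * g⁻¹)⁻¹, inv_mem h7, (y : G)⁻¹, inv_mem y.2, ?_⟩
  group

theorem conj_comm (x : MulAut S) (s : S) : x * MulAut.conj s * x⁻¹ = MulAut.conj (x s) := by
  ext t
  simp only [MulAut.conj_apply, MulAut.mul_apply, map_mul, map_inv, MulAut.apply_inv_self]

/-- Baer–Suzuki with respect to inner conjugation only -/
theorem false_of_inner [IsSimpleGroup S] (hna : ¬ IsMulCommutative S) {r : ℕ} (hr : r.Prime) (hx : x ≠ 1)
    (h : ∀ s : S, IsPGroup r (closure ({x, MulAut.conj s * x * (MulAut.conj s)⁻¹} : Set (MulAut S)))) : False := by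
  have hrf : Fact r.Prime := ⟨hr⟩
  set B : Subgroup (MulAut S) := (MulAut.conj (G := S)).range ⊔ zpowers x with hB
  have hin : ∀ s : S, MulAut.conj s ∈ B := fun s => mem_sup_left ⟨s, rfl⟩
  have hxB : x ∈ B := mem_sup_right (mem_zpowers x)
  have hI : (MulAut.conj (G := S)).range.Normal := by
    refine ⟨?_⟩
    rintro _ ⟨s, rfl⟩ g
    exact ⟨g s, (conj_comm g s).symm⟩
  have hBS : IsPGroup r (normalClosure {(⟨x, hxB⟩ : B)} : Subgroup B) := by
    refine Cfsg.Agent.Involutions.BaerSuzuki.baer_suzuki_element _ fun g => ?_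
    have hg : (g : MulAut S) ∈ (((MulAut.conj (G := S)).range ⊔ zpowers x : Subgroup (MulAut S)) : Set (MulAut S)) :=
      g.2
    rw [Subgroup.normal_mul] at hg
    obtain ⟨_, ⟨s, rfl⟩, y, hy, hsy⟩ := hg
    have hc : Commute y x := by
      obtain ⟨k, rfl⟩ := mem_zpowers_iff.1 hy
      exact (Commute.refl x).zpow_left k
    have h1 : (g : MulAut S) * x * (g : MulAut S)⁻¹ = MulAut.conj s * x * (MulAut.conj s)⁻¹ := by
      rw [← hsy]
      show MulAut.conj s * y * x * (MulAut.conj s * y)⁻¹ = _
      rw [mul_assoc (MulAut.conj s), hc.eq]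
      group
    refine ((h s).comap_of_injective B.subtype B.subtype_injective).to_le ?_
    rw [closure_le]
    rintro y (rfl | hy)
    · exact subset_closure (Or.inl rfl)
    · rw [Set.mem_singleton_iff] at hy
      subst hy
      refine subset_closure (Or.inr ?_)
      rw [Set.mem_singleton_iff]
      exact h1
  set N : Subgroup B := normalClosure {(⟨x, hxB⟩ : B)} with hN
  have hxN : (⟨x, hxB⟩ : B) ∈ N := subset_normalClosure (by simp)
  have hNn : N.Normal := normalClosure_normal
  let ι : S →* B := MonoidHom.codRestrict (MulAut.conj : S →* MulAut S) B hin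
  have hZ := center_eq_bot (S := S) hna
  have hinj : Function.Injective ι := by
    intro a b hab
    exact conj_injective hZ (congrArg Subtype.val hab)
  rcases (IsSimpleGroup.eq_bot_or_eq_top_of_normal (N.comap ι) inferInstance) with h1 | h1
  · refine hx (MulEquiv.ext fun s => ?_)
    have h2 : x s * s⁻¹ ∈ N.comap ι := by
      rw [mem_comap]
      have h3 : ι (x s * s⁻¹) = (⟨x, hxB⟩ : B) * ((ι s) * (⟨x, hxB⟩ : B)⁻¹ * (ι s)⁻¹) := by
        apply Subtype.ext
        show MulAut.conj (x s * s⁻¹) = x * (MulAut.conj s * x⁻¹ * (MulAut.conj s)⁻¹)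
        rw [map_mul, ← conj_comm, map_inv]
        group
      rw [h3]
      exact mul_mem hxN (hNn.conj_mem _ (inv_mem hxN) _)
    rw [h1, mem_bot] at h2
    rw [MulAut.one_apply]
    exact mul_inv_eq_one.1 h2
  · have h2 : IsPGroup r S := by
      have h3 : IsPGroup r ι.range := hBS.to_le (by
        rintro _ ⟨s, rfl⟩
        have : s ∈ N.comap ι := by rw [h1]; trivial
        exact this)
      exact h3.of_equiv (MonoidHom.ofInjective hinj).symm
    have h3 : Nontrivial S := inferInstance
    have h4 : Nontrivial (center S) := h2.center_nontrivial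
    rw [hZ] at h4
    exact not_nontrivial _ h4

/-- an automorphism of prime order not dividing `|S|` normalises a Sylow `t`-subgroup -/
theorem exists_sylow_invariant (hl : l.Prime) (hord : orderOf x = l) (hS : ¬ l ∣ Nat.card S) {t : ℕ} (ht : t.Prime) :
    ∃ P : Sylow t S, ∀ v ∈ (P : Subgroup S), x v ∈ (P : Subgroup S) := by
  have htf : Fact t.Prime := ⟨ht⟩
  have hlf : Fact l.Prime := ⟨hl⟩
  have h1 : IsPGroup l (zpowers x) := by
    refine IsPGroup.of_card (n := 1) ?_
    rw [Nat.card_zpowers, hord, pow_one]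
  have h2 := h1.card_modEq_card_fixedPoints (Sylow t S)
  have h3 : Nat.card (MulAction.fixedPoints (zpowers x) (Sylow t S)) ≠ 0 := by
    intro h0
    rw [h0] at h2
    have h4 : l ∣ Nat.card (Sylow t S) := (Nat.modEq_zero_iff_dvd).1 h2
    have h5 : Nat.card (Sylow t S) ∣ Nat.card S := by
      obtain ⟨P⟩ : Nonempty (Sylow t S) := Sylow.nonempty
      exact P.card_dvd_index.trans (Subgroup.index_dvd_card _)
    exact hS (h4.trans h5)
  have h4 : Nonempty (MulAction.fixedPoints (zpowers x) (Sylow t S)) := by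
    by_contra hne
    rw [not_nonempty_iff] at hne
    exact h3 Nat.card_of_isEmpty
  obtain ⟨⟨P, hP⟩⟩ := h4
  refine ⟨P, fun v hv => ?_⟩
  have h5 : x • P = P := hP ⟨x, mem_zpowers x⟩
  have h6 : x v ∈ ((x • P : Sylow t S) : Subgroup S) := by
    rw [Sylow.pointwise_smul_def]
    exact Subgroup.smul_mem_pointwise_smul v x _ hv
  rwa [h5] at h6

/-- the fixed points of `x` -/
def fix (x : MulAut S) : Subgroup S where
  carrier := {s | x s = s}
  one_mem' := map_one x
  mul_mem' := fun {a b} ha hb => by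
    show x (a * b) = a * b
    rw [map_mul, ha, hb]
  inv_mem' := fun {a} ha => by
    show x a⁻¹ = a⁻¹
    rw [map_inv, ha]

theorem mem_fix {s : S} : s ∈ fix x ↔ x s = s := Iff.rfl

/-- **The end**: `π` contains at most one prime divisor of `|S|`. -/
theorem Hyp.false_of_one (h : Hyp π A x l) [IsSimpleGroup S] (hna : ¬ IsMulCommutative S) {r : ℕ} (hr : r.Prime)
    (hu : ∀ p : ℕ, p.Prime → p ∈ π → p ∣ Nat.card S → p = r) : False := by
  have hrf : Fact r.Prime := ⟨hr⟩
  have hZ := center_eq_bot (S := S) hna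
  by_cases hlS : l ∣ Nat.card S
  · -- Baer–Suzuki
    have hlr := hu l h.prime h.lpi hlS
    refine false_of_inner hna hr h.ne_one fun s => ?_
    set K : Subgroup (MulAut S) := closure ({x, MulAut.conj s * x * (MulAut.conj s)⁻¹} : Set (MulAut S)) with hK
    have h1 := h.pair_inn s
    set B : Subgroup (MulAut S) := (MulAut.conj (G := S)).range ⊔ zpowers x with hB
    have hI : (MulAut.conj (G := S)).range.Normal := by
      refine ⟨?_⟩
      rintro _ ⟨s, rfl⟩ g
      exact ⟨g s, (conj_comm g s).symm⟩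
    have hxB : x ∈ B := mem_sup_right (mem_zpowers x)
    have hKB : K ≤ B := by
      rw [hK, closure_le]
      rintro y (rfl | hy)
      · exact hxB
      · rw [Set.mem_singleton_iff] at hy
        subst hy
        have h2 : MulAut.conj s ∈ B := mem_sup_left ⟨s, rfl⟩
        exact mul_mem (mul_mem h2 hxB) (inv_mem h2)
    have hBc : Nat.card B ∣ Nat.card S * l := by
      have h2 : Nat.card (MulAut.conj (G := S)).range ∣ Nat.card S := by
        rw [MonoidHom.range_eq_map, ← Subgroup.card_top (G := S)]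
        exact Subgroup.card_map_dvd _ _
      have h3 : Nat.card B = Nat.card (MulAut.conj (G := S)).range * ((MulAut.conj (G := S)).range.relIndex B) :=
        by
          rw [← Subgroup.relIndex_bot_left, ← Subgroup.relIndex_bot_left]
          exact (Subgroup.relIndex_mul_relIndex ⊥ _ B bot_le le_sup_left).symm
      rw [h3]
      refine mul_dvd_mul h2 ?_
      rw [hB, sup_comm, Subgroup.relIndex_sup_right, ← h.ord, ← Nat.card_zpowers]
      exact Subgroup.relIndex_dvd_card _ _
    rw [IsPGroup.iff_card]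
    refine ⟨_, Nat.eq_prime_pow_of_unique_prime_dvd Nat.card_pos.ne' fun {d} hd hdK => ?_⟩
    have h2 : d ∣ Nat.card S * l := (hdK.trans (Subgroup.card_dvd_of_le hKB)).trans hBc
    rcases (hd.dvd_mul).1 h2 with h3 | h3
    · exact hu d hd (h1 d hd hdK) h3
    · rw [(Nat.prime_dvd_prime_iff_eq hd h.prime).1 h3, hlr]
  · -- coprime action
    have hfix : ∀ t : ℕ, t.Prime → t ≠ r → ¬ t ∣ (fix x).index := by
      intro t ht htr htd
      have htf : Fact t.Prime := ⟨ht⟩
      obtain ⟨P, hP⟩ := exists_sylow_invariant h.prime h.ord hlS ht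
      have htS : t ∣ Nat.card S := htd.trans (Subgroup.index_dvd_card _)
      have htp : t ∉ π := fun hp => htr (hu t ht hp htS)
      have h1 : (P : Subgroup S) ≤ fix x := fun v hv => h.fix_of_invariant hZ ht htp P.2 hP hv
      exact P.not_dvd_index (htd.trans (Subgroup.index_dvd_of_le h1))
    obtain ⟨Q, hQ⟩ := exists_sylow_invariant h.prime h.ord hlS hr
    have hcop : Nat.Coprime (Q : Subgroup S).index (fix x).index := by
      refine Nat.Coprime.symm (Nat.coprime_of_dvd fun t ht h1 h2 => ?_)
      by_cases htr : t = r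
      · rw [htr] at h2
        exact Q.not_dvd_index h2
      · exact hfix t ht htr h1
    have hmem : ∀ s : S, x s * s⁻¹ ∈ (Q : Subgroup S) := by
      intro s
      obtain ⟨q, hq, c, hc, rfl⟩ := Cfsg.Agent.H469.PiBS.exists_mul_of_coprime_index' hcop s
      have hc' : x c = c := hc
      rw [map_mul, hc']
      have h1 : x q * c * (q * c)⁻¹ = x q * q⁻¹ := by group
      rw [h1]
      exact (Q : Subgroup S).mul_mem (hQ q hq) ((Q : Subgroup S).inv_mem hq)
    have hN : (closure {g : S | ∃ s : S, g = x s * s⁻¹}).Normal := by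
      refine ⟨fun n hn g => ?_⟩
      have hnorm : closure {g : S | ∃ s : S, g = x s * s⁻¹} ≤
          (closure {g : S | ∃ s : S, g = x s * s⁻¹}).comap (MulAut.conj g).toMonoidHom := by
        rw [closure_le]
        rintro _ ⟨s, rfl⟩
        show g * (x s * s⁻¹) * g⁻¹ ∈ closure {g : S | ∃ s : S, g = x s * s⁻¹}
        have h1 : g * (x s * s⁻¹) * g⁻¹ = (x g * g⁻¹)⁻¹ * (x (g * s) * (g * s)⁻¹) := by
          rw [map_mul]; group
        rw [h1]
        exact mul_mem (inv_mem (subset_closure ⟨g, rfl⟩)) (subset_closure ⟨g * s, rfl⟩)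
      exact hnorm hn
    have hle : closure {g : S | ∃ s : S, g = x s * s⁻¹} ≤ (Q : Subgroup S) := by
      rw [closure_le]
      rintro _ ⟨s, rfl⟩
      exact hmem s
    rcases hN.eq_bot_or_eq_top with h1 | h1
    · refine h.ne_one (MulEquiv.ext fun s => ?_)
      have h2 : x s * s⁻¹ ∈ closure {g : S | ∃ s : S, g = x s * s⁻¹} := subset_closure ⟨s, rfl⟩
      rw [h1, mem_bot] at h2
      exact mul_inv_eq_one.1 h2
    · have h2 : IsPGroup r S := by
        have h3 : (Q : Subgroup S) = ⊤ := top_le_iff.1 (h1 ▸ hle)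
        have h4 := Q.2
        rw [h3] at h4
        exact h4.of_equiv Subgroup.topEquiv
      have h3 : Nontrivial S := inferInstance
      have h4 : Nontrivial (center S) := h2.center_nontrivial
      rw [hZ] at h4
      exact not_nontrivial _ h4

end Cfsg.Agent.H469.PiBS
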