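import Cfsg.Agent.H469.PiBS.Red
import Cfsg.Agent.H470.Final
import Cfsg.Agent.H836.CosetEnd
import Cfsg.Agent.H836.PslEleven
import Cfsg.Agent.H465.PiBSAlt
import Cfsg.Agent.H443.PC.RowChar
import Cfsg.Agent.OddHalf.Known

/-!
# S3876: assembly from the rows (PIBS)

The rows of the Tits group and of the sporadic groups are hypotheses.
-/

set_option autoImplicit false
set_option linter.unusedSectionVars false

namespace Cfsg.Agent.H469.PiBS

open Cfsg Subgroup Cfsg.Agent.SignalizersComponents.ComponentExists Cfsg.Agent.H470.SolvPi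

universe u

/-- the rows with hypotheses for the Tits group and the sporadic groups -/
theorem row_all {π : Set ℕ} (h2 : 2 ∈ π)
    (h3608 : ∀ (S : Type u) [Group S] [Finite S], IsSimpleGroup S → ¬ IsMulCommutative S →
      ∀ (H : Subgroup S) (p k : ℕ), p.Prime → 1 ≤ k → H.index = p ^ k → H836.CosetEnd.Idx S p k)
    (rtits : ∀ (S : Type u) [Group S] [Finite S] [IsSimpleGroup S], ¬ IsMulCommutative S →
      Lie.IsoTits S → Row π S)
    (rspor : ∀ (S : Type u) [Group S] [Finite S] [IsSimpleGroup S], ¬ IsMulCommutative S →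
      IsSporadicGroup S → Row π S)
    (S : Type u) [Group S] [Finite S] [IsSimpleGroup S] (hna : ¬ IsMulCommutative S) (hK : IsKnownSimple' S) :
    Row π S := by
  have halt : ∀ n : ℕ, 5 ≤ n → Nonempty (S ≃* alternatingGroup (Fin n)) → Row π S := by
    rintro n hn ⟨e⟩
    exact (row_alt h2 hn).of_equiv e
  have hlie : ∀ p : ℕ, p.Prime → IsLieTypeChar p S → Row π S := by
    intro p hp hG
    by_cases hpi : p ∈ π
    · exact Cfsg.Agent.H443.PC.row_char hna hp hG h2 hpi
    · refine H836.CosetEnd.row_of hp hG h2 hpi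
        (fun H p k hp hk hH => h3608 S ‹IsSimpleGroup S› hna H p k hp hk hH) (halt 5 le_rfl) ?_
        H836.PslEleven.exists_dih
      intro r hr hrpi hS
      exact Cfsg.Agent.H443.PC.row_char hna hr (Or.inl hS) h2 hrpi
  rcases Cfsg.Agent.OddHalf.Known.classify hna hK with h1 | ⟨p, hp, -, h1⟩ | (h1 | h1) | h1
  · obtain ⟨n, hn, e⟩ := h1
    exact halt n hn e
  · exact hlie p hp h1
  · exact hlie 2 Nat.prime_two h1
  · exact rtits S hna h1
  · exact rspor S hna h1

/-- **S3876 from the rows.** -/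
theorem main {π : Set ℕ}
    (hK : ∀ (K : Type u) [Group K] [Finite K] [IsSimpleGroup K], IsKnownSimple' K)
    (h5 : ∀ (G : Type u) [Group G] [Finite G] (p : ℕ), p.Prime → 5 ≤ p → ∀ x : G, orderOf x = p →
      (∀ g : G, Group.IsSolvable ↥(closure ({x, g * x * g⁻¹} : Set G))) → x ∈ solvableRadical G)
    (h3608 : ∀ (S : Type u) [Group S] [Finite S], IsSimpleGroup S → ¬ IsMulCommutative S →
      ∀ (H : Subgroup S) (p k : ℕ), p.Prime → 1 ≤ k → H.index = p ^ k → H836.CosetEnd.Idx S p k)
    (rtits : 2 ∈ π → ∀ (S : Type u) [Group S] [Finite S] [IsSimpleGroup S], ¬ IsMulCommutative S →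
      Lie.IsoTits S → Row π S)
    (rspor : 2 ∈ π → ∀ (S : Type u) [Group S] [Finite S] [IsSimpleGroup S], ¬ IsMulCommutative S →
      IsSporadicGroup S → Row π S)
    (G : Type u) [Group G] [Finite G] (hD : IsDPiGroup π G) (x : G) (hx : Pairs π x) :
    IsPiSubgroup π (normalClosure ({x} : Set G)) := by
  by_cases h2 : 2 ∈ π
  · refine reduce (fun S _ _ _ hna => ?_) G (Cfsg.Agent.H507.DPi.dPi_of_isDPiGroup hD) x hx
    exact row_all h2 h3608 (rtits h2) (rspor h2) S hna (hK S)
  · exact Cfsg.Agent.H470.Final.main hK h5 h2 hx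

end Cfsg.Agent.H469.PiBS
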